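import Mathlib.LinearAlgebra.FiniteDimensional.Lemmas
import Mathlib.LinearAlgebra.Isomorphisms
import Mathlib.LinearAlgebra.Pi

/-! Extension of partial linear maps of a finite dimensional space. -/

set_option autoImplicit false

namespace CfsgLib.AffClose

/-- Two linear maps with the same kernel differ by an automorphism of the target. -/
theorem exists_equiv_of_ker_eq {K V W : Type*} [Field K] [AddCommGroup V] [Module K V]
    [FiniteDimensional K V] [AddCommGroup W] [Module K W] (f f' : W →ₗ[K] V)
    (h : LinearMap.ker f = LinearMap.ker f') : ∃ A : V ≃ₗ[K] V, ∀ x, A (f x) = f' x := by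
  let e : LinearMap.range f ≃ₗ[K] LinearMap.range f' :=
    (f.quotKerEquivRange.symm.trans (Submodule.quotEquivOfEq _ _ h)).trans f'.quotKerEquivRange
  obtain ⟨Q, hQ⟩ := Submodule.exists_isCompl (LinearMap.range f)
  obtain ⟨Q', hQ'⟩ := Submodule.exists_isCompl (LinearMap.range f')
  have hd : Module.finrank K Q = Module.finrank K Q' := by
    have h1 := Submodule.finrank_add_eq_of_isCompl hQ
    have h2 := Submodule.finrank_add_eq_of_isCompl hQ'
    have h3 := e.finrank_eq
    omega
  refine ⟨(Submodule.prodEquivOfIsCompl _ _ hQ).symm.trans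
    ((e.prodCongr (LinearEquiv.ofFinrankEq _ _ hd)).trans
      (Submodule.prodEquivOfIsCompl _ _ hQ')), fun x => ?_⟩
  have h1 : (Submodule.prodEquivOfIsCompl _ _ hQ).symm (f x) =
      ((⟨f x, LinearMap.mem_range_self f x⟩ : LinearMap.range f), (0 : Q)) :=
    Submodule.prodEquivOfIsCompl_symm_apply_left (LinearMap.range f) Q hQ ⟨f x, LinearMap.mem_range_self f x⟩
  have h2 : (e ⟨f x, LinearMap.mem_range_self f x⟩ : V) = f' x := by
    simp [e, LinearMap.quotKerEquivRange_symm_apply_image f x (LinearMap.mem_range_self f x)]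
  simp [h1, h2]

/-- Two pairs of vectors with the same linear relations differ by an automorphism. -/
theorem exists_equiv_pair {K V : Type*} [Field K] [AddCommGroup V] [Module K V]
    [FiniteDimensional K V] (u w u' w' : V)
    (h : ∀ a b : K, a • u + b • w = 0 ↔ a • u' + b • w' = 0) :
    ∃ A : V ≃ₗ[K] V, A u = u' ∧ A w = w' := by
  let f : (u v : V) → (K × K) →ₗ[K] V := fun u v =>
    LinearMap.coprod (LinearMap.toSpanSingleton K V u) (LinearMap.toSpanSingleton K V v)
  obtain ⟨A, hA⟩ := exists_equiv_of_ker_eq (f u w) (f u' w') (by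
    ext ⟨a, b⟩
    simpa [f] using h a b)
  refine ⟨A, ?_, ?_⟩
  · simpa [f] using hA (1, 0)
  · simpa [f] using hA (0, 1)

end CfsgLib.AffClose
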