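import Mathlib.FieldTheory.Finite.Basic
import Mathlib.Algebra.Polynomial.Roots
import Mathlib.Algebra.BigOperators.Fin
import Mathlib.Algebra.Polynomial.BigOperators
import Mathlib.Data.Nat.Choose.Dvd

/-! Functions on a prime field whose difference quotients lie in a proper subgroup. -/

set_option autoImplicit false

namespace CfsgLib.AffClose

open Polynomial Finset

variable {p : ℕ} [hp : Fact p.Prime]

theorem sum_pow_eq {m : ℕ} (h0 : 0 < m) (h2 : m < 2 * (p - 1)) :
    ∑ T : ZMod p, T ^ m = if m = p - 1 then -1 else 0 := by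
  classical
  rw [Fintype.sum_eq_add_sum_compl (0 : ZMod p), zero_pow (by omega), zero_add]
  have e : ∑ T ∈ ({0}ᶜ : Finset (ZMod p)), T ^ m = ∑ u : (ZMod p)ˣ, ((u : ZMod p)) ^ m := by
    symm
    refine Finset.sum_bij (fun u _ => (u : ZMod p)) (fun u _ => by simp) (fun a _ b _ h => Units.ext h)
      (fun T hT => ⟨Units.mk0 T (by simpa using hT), Finset.mem_univ _, rfl⟩) fun u _ => rfl
  rw [e, FiniteField.sum_pow_units, ZMod.card]
  have hiff : p - 1 ∣ m ↔ m = p - 1 := by
    constructor
    · rintro ⟨c, rfl⟩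
      rcases c with _ | _ | c
      · simp at h0
      · simp
      · exfalso
        rw [show (p - 1) * (c + 1 + 1) = (p - 1) * c + 2 * (p - 1) by ring] at h2
        omega
    · rintro rfl; exact dvd_rfl
  simp [hiff]

/-- A permutation with `(f x - f y) ^ k = (x - y) ^ k`, `2 k < p`, is affine. -/
theorem affine_of_slopes {f : Equiv.Perm (ZMod p)} {k : ℕ} (hk : 0 < k) (h2k : 2 * k ≤ p - 1)
    (h : ∀ x y, (f x - f y) ^ k = (x - y) ^ k) : ∃ a b : ZMod p, ∀ x, f x = a * x + b := by
  classical
  have hp2 := hp.out.two_le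
  have hpoly : ∀ j ≤ k, ∃ P : (ZMod p)[X], P.natDegree ≤ k ∧ ∀ y, P.eval y = f y ^ j := by
    intro j hj
    have hch : ((k.choose j : ℕ) : ZMod p) ≠ 0 := by
      rw [Ne, ZMod.natCast_eq_zero_iff]
      exact fun hd => absurd hd ((hp.out.coprime_iff_not_dvd).1
        (hp.out.coprime_choose_of_lt (a := j) (b := k) (by omega) hj))
    set m := p - 1 - (k - j) with hm
    set c : ZMod p := -((k.choose j : ℕ) : ZMod p) * (-1) ^ j with hc
    have hc0 : c ≠ 0 := mul_ne_zero (neg_ne_zero.2 hch) (pow_ne_zero _ (by simp))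
    refine ⟨C c⁻¹ * ∑ x : ZMod p, C (f x ^ m) * (C x - X) ^ k, ?_, fun y => ?_⟩
    · refine le_trans (natDegree_C_mul_le _ _) (natDegree_sum_le_of_forall_le _ _ fun x _ => ?_)
      refine le_trans (natDegree_C_mul_le _ _) (le_trans natDegree_pow_le ?_)
      have : (C x - X : (ZMod p)[X]).natDegree ≤ 1 :=
        le_trans (natDegree_sub_le _ _) (by simp)
      exact le_trans (Nat.mul_le_mul_left k this) (le_of_eq (mul_one k))
    · simp only [eval_mul, eval_C, eval_finsetSum, eval_pow, eval_sub, eval_X]
      have e1 : ∑ x : ZMod p, f x ^ m * (x - y) ^ k = ∑ T : ZMod p, T ^ m * (T - f y) ^ k := by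
        rw [← Equiv.sum_comp f fun T => T ^ m * (T - f y) ^ k]
        exact Finset.sum_congr rfl fun x _ => by rw [h]
      rw [e1]
      have e2 : ∀ T : ZMod p, T ^ m * (T - f y) ^ k =
          ∑ i ∈ range (k + 1), T ^ (m + i) * ((-f y) ^ (k - i) * (k.choose i : ZMod p)) := by
        intro T
        rw [sub_eq_add_neg, add_pow, Finset.mul_sum]
        exact Finset.sum_congr rfl fun i _ => by ring
      simp only [e2]
      rw [Finset.sum_comm]
      have e3 : ∀ i ∈ range (k + 1), ∑ T : ZMod p, T ^ (m + i) *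
          ((-f y) ^ (k - i) * (k.choose i : ZMod p)) =
          if i = k - j then c * f y ^ j else 0 := by
        intro i hi
        rw [Finset.mem_range] at hi
        rw [← Finset.sum_mul, sum_pow_eq (by omega) (by omega)]
        by_cases hij : i = k - j
        · rw [if_pos hij, if_pos (by omega), hij, Nat.choose_symm hj,
            show k - (k - j) = j by omega, hc, neg_pow]
          ring
        · rw [if_neg hij, if_neg (by omega), zero_mul]
      rw [Finset.sum_congr rfl e3, Finset.sum_ite_eq', if_pos (Finset.mem_range.2 (by omega)),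
        ← mul_assoc, inv_mul_cancel₀ hc0, one_mul]
  obtain ⟨P, hP, hPe⟩ := hpoly 1 hk
  set n := P.natDegree with hn
  have hn1 : n ≤ 1 := by
    by_contra hn2
    push Not at hn2
    set j := k / n + 1 with hj
    have hjk : j ≤ k := by
      have : k / n < k := Nat.div_lt_self hk hn2
      omega
    have h1 : k < n * j := by
      rw [hj, Nat.mul_add, mul_one]
      have := Nat.div_add_mod k n
      have := Nat.mod_lt k (show n > 0 by omega)
      omega
    have h2 : n * j ≤ k + n := by
      rw [hj, Nat.mul_add, mul_one]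
      have := Nat.div_add_mod k n
      omega
    obtain ⟨Q, hQ, hQe⟩ := hpoly j hjk
    have hdeg : (P ^ j).natDegree = n * j := by rw [natDegree_pow, mul_comm]
    have heq : P ^ j = Q := by
      refine eq_of_natDegree_lt_card_of_eval_eq (P ^ j) Q Function.injective_id
        (fun y => by simp [hPe, hQe]) ?_
      rw [ZMod.card, hdeg]; omega
    rw [heq] at hdeg
    omega
  obtain ⟨a, b, hab⟩ : ∃ a b, P = C a * X + C b :=
    ⟨P.coeff 1, P.coeff 0, eq_X_add_C_of_natDegree_le_one hn1⟩
  refine ⟨a, b, fun x => ?_⟩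
  have := hPe x
  rw [hab] at this
  simpa using this.symm

end CfsgLib.AffClose
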